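import Mathlib.RingTheory.AdicCompletion.Algebra
import Groth.Agent.CompleteLib.Basic

/-!
# Complete rings with the same truncations are the completion
-/

set_option autoImplicit false
set_option linter.all false

universe u

namespace ConormalAlgz

theorem exists_equiv_completion {D C : Type u} [CommRing D] [CommRing C] (𝔡 : Ideal D) (Φ : D →+* C)
    (hC : IsAdicComplete (𝔡.map Φ) C)
    (hsurj : ∀ n (y : C), ∃ d, y - Φ d ∈ (𝔡.map Φ) ^ n)
    (hinj : ∀ n d, Φ d ∈ (𝔡.map Φ) ^ n → d ∈ 𝔡 ^ n) :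
    ∃ e : C ≃+* AdicCompletion 𝔡 D, ∀ d, e (Φ d) = algebraMap D _ d := by
  let Φn : ∀ n, D ⧸ 𝔡 ^ n →+* C ⧸ (𝔡.map Φ) ^ n := fun n =>
    Ideal.quotientMap _ Φ (Ideal.map_le_iff_le_comap.mp (Ideal.map_pow Φ 𝔡 n).le)
  have hb : ∀ n, Function.Bijective (Φn n) := fun n => by
    refine ⟨(injective_iff_map_eq_zero _).mpr fun x hx => ?_, fun y => ?_⟩
    · obtain ⟨d, rfl⟩ := Ideal.Quotient.mk_surjective x
      rw [Ideal.quotientMap_mk, Ideal.Quotient.eq_zero_iff_mem] at hx
      exact Ideal.Quotient.eq_zero_iff_mem.mpr (hinj n d hx)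
    · obtain ⟨y, rfl⟩ := Ideal.Quotient.mk_surjective y
      obtain ⟨d, hd⟩ := hsurj n y
      exact ⟨Ideal.Quotient.mk _ d, by rw [Ideal.quotientMap_mk, eq_comm, Ideal.Quotient.eq]; exact hd⟩
  let f : ∀ n, C →+* D ⧸ 𝔡 ^ n := fun n =>
    (RingEquiv.ofBijective (Φn n) (hb n)).symm.toRingHom.comp (Ideal.Quotient.mk _)
  have hf1 : ∀ n x, Φn n (f n x) = Ideal.Quotient.mk _ x := fun n x =>
    (RingEquiv.ofBijective (Φn n) (hb n)).apply_symm_apply _
  have hfΦ : ∀ n d, f n (Φ d) = Ideal.Quotient.mk _ d := fun n d =>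
    (hb n).1 ((hf1 n _).trans Ideal.quotientMap_mk.symm)
  have hf : ∀ {a b : ℕ} (h : a ≤ b), (Ideal.Quotient.factorPow 𝔡 h).comp (f b) = f a := fun {a b} h => by
    refine RingHom.ext fun x => (hb a).1 ?_
    obtain ⟨d, hd⟩ := Ideal.Quotient.mk_surjective (f b x)
    have h1 := hf1 b x
    rw [← hd, Ideal.quotientMap_mk, Ideal.Quotient.eq] at h1
    rw [RingHom.comp_apply, ← hd, hf1, Ideal.Quotient.factor_mk, Ideal.quotientMap_mk, Ideal.Quotient.eq]
    exact Ideal.pow_le_pow_right h h1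
  haveI := hC
  let α : C →+* AdicCompletion 𝔡 D := AdicCompletion.liftRingHom 𝔡 f hf
  have hα : ∀ n x, AdicCompletion.evalₐ 𝔡 n (α x) = f n x := fun n x =>
    AdicCompletion.evalₐ_liftRingHom 𝔡 f hf n x
  have hbij : Function.Bijective α := by
    refine ⟨(injective_iff_map_eq_zero α).mpr fun x hx => ?_, fun z => ?_⟩
    · refine CompleteLib.eq_zero_of_forall_mem (I := 𝔡.map Φ) fun n => ?_
      rw [smul_eq_mul, Ideal.mul_top, ← Ideal.Quotient.eq_zero_iff_mem, ← hf1 n x, ← hα, hx, map_zero, map_zero]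
    · choose d hd using fun n => Ideal.Quotient.mk_surjective (AdicCompletion.evalₐ 𝔡 n z)
      obtain ⟨L, hL⟩ := IsPrecomplete.prec (I := 𝔡.map Φ) inferInstance (f := fun n => Φ (d n))
        fun {a b} hab => by
          rw [SModEq.sub_mem, smul_eq_mul, Ideal.mul_top, ← map_sub, ← Ideal.map_pow]
          refine Ideal.mem_map_of_mem _ ?_
          rw [← Ideal.Quotient.eq, hd, ← Ideal.Quotient.factor_mk (Ideal.pow_le_pow_right hab) (d b), hd]
          induction z using AdicCompletion.induction_on with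
          | _ s =>
            rw [AdicCompletion.evalₐ_mk, AdicCompletion.evalₐ_mk, Ideal.Quotient.factor_mk, Ideal.Quotient.eq]
            have := SModEq.sub_mem.mp (s.property hab)
            rwa [smul_eq_mul, Ideal.mul_top] at this
      refine ⟨L, AdicCompletion.ext_evalₐ fun n => (hb n).1 ?_⟩
      have h1 := SModEq.sub_mem.mp (hL n)
      rw [smul_eq_mul, Ideal.mul_top] at h1
      rw [hα, hf1, ← hd, Ideal.quotientMap_mk, eq_comm, Ideal.Quotient.eq]
      exact h1
  refine ⟨RingEquiv.ofBijective α hbij, fun d => AdicCompletion.ext_evalₐ fun n => ?_⟩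
  rw [RingEquiv.ofBijective_apply, hα, hfΦ, AlgHom.commutes]
  rfl

end ConormalAlgz
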