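import Groth.Agent.ConormalAlgzLib.Saturation
import Groth.Agent.ConormalAlgzLib.Complete
import Groth.Agent.AdicRingLib.Completion
import Mathlib.LinearAlgebra.Matrix.Charpoly.LinearMap
import Mathlib.RingTheory.Localization.Away.Basic
import Mathlib.RingTheory.FiniteType
import Mathlib.RingTheory.Localization.InvSubmonoid

/-!
# Algebraizing quotients of completions with bounded conormal module
-/

set_option autoImplicit false
set_option linter.all false

universe u

namespace ConormalAlgz

/-- The determinant trick for `J / J ^ 2` killed by `t`. -/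
theorem mem_sup_annihilator {T : Type u} [CommRing T] [IsNoetherianRing T] (J : Ideal T) (t : T)
    (ht : ∀ x ∈ J, t * x ∈ J ^ 2) : t ∈ (J ⊔ Submodule.annihilator J).radical := by
  haveI : Module.Finite T J := inferInstance
  obtain ⟨p, hp, -, hco, hev⟩ :=
    LinearMap.exists_monic_and_natDegree_eq_and_coeff_mem_pow_and_aeval_eq_zero
      (f := algebraMap T (Module.End T J) t) (I := J) (hI := by
        rintro _ ⟨x, rfl⟩
        have hinj := Submodule.injective_subtype J
        have : ((algebraMap T (Module.End T J) t x : J) : T) ∈ (J • (⊤ : Submodule T J)).map J.subtype := by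
          rw [Submodule.map_smul'', Submodule.map_top, Submodule.range_subtype, smul_eq_mul, ← pow_two,
            Module.algebraMap_end_apply, SetLike.val_smul, smul_eq_mul]
          exact ht x x.2
        obtain ⟨y, hy, hyx⟩ := this
        exact Subtype.ext (show (y : T) = _ from hyx) ▸ hy)
  refine ⟨p.natDegree, ?_⟩
  have hann : p.eval t ∈ Submodule.annihilator J := by
    rw [Submodule.mem_annihilator]
    intro x hx
    have := congrArg (fun f : Module.End T J => ((f ⟨x, hx⟩ : J) : T)) hev
    rw [Polynomial.aeval_algebraMap_apply] at this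
    simpa [Module.algebraMap_end_apply] using this
  rw [Polynomial.eval_eq_sum_range, Finset.sum_range_succ, hp.coeff_natDegree, one_mul] at hann
  have hg : ∑ i ∈ Finset.range p.natDegree, p.coeff i * t ^ i ∈ J := Ideal.sum_mem _ fun i hi =>
    Ideal.mul_mem_right _ _ (Ideal.pow_le_self (by have := Finset.mem_range.mp hi; omega) (hco i))
  have := Ideal.sub_mem _ (Submodule.mem_sup_right (S := J) hann) (Submodule.mem_sup_left hg)
  rwa [add_sub_cancel_left] at this

theorem mk_prod_mem {S X Y : Type u} [CommRing S] [CommRing X] [CommRing Y] (K : Ideal S) (g₁ : S →+* X)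
    (g₂ : S →+* Y) {x : X} {y : Y} (hx : x ∈ K.map g₁) (hy : y ∈ K.map g₂) :
    (x, y) ∈ K.map (g₁.prod g₂) := by
  have h1 : K.map g₁ = (K.map (g₁.prod g₂)).map (RingHom.fst X Y) := by rw [Ideal.map_map]; rfl
  have h2 : K.map g₂ = (K.map (g₁.prod g₂)).map (RingHom.snd X Y) := by rw [Ideal.map_map]; rfl
  rw [h1, Ideal.mem_map_iff_of_surjective _ Prod.fst_surjective] at hx
  rw [h2, Ideal.mem_map_iff_of_surjective _ Prod.snd_surjective] at hy
  obtain ⟨u, hu, rfl⟩ := hx
  obtain ⟨v, hv, rfl⟩ := hy
  have : ((RingHom.fst X Y) u, (RingHom.snd X Y) v) = (1, 0) * u + (0, 1) * v := by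
    ext <;> simp
  rw [this]
  exact add_mem (Ideal.mul_mem_left _ _ hu) (Ideal.mul_mem_left _ _ hv)

variable (A : Type u) [CommRing A] [IsNoetherianRing A] (I : Ideal A) (B : Type u) [CommRing B] [Algebra A B]
  [Algebra.FiniteType A B] (C : Type u) [CommRing C]

theorem exists_algebraization
    (π : AdicCompletion (Ideal.map (algebraMap A B) I) B →+* C) (hπ : Function.Surjective π) (c : ℕ)
    (hJ : Ideal.map ((algebraMap B (AdicCompletion (Ideal.map (algebraMap A B) I) B)).comp
        (algebraMap A B)) I ^ c * RingHom.ker π ≤ RingHom.ker π ^ 2) :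
    ∃ (D : Type u) (_ : CommRing D) (_ : Algebra A D), Algebra.FiniteType A D ∧
      ∃ e : C ≃+* AdicCompletion (Ideal.map (algebraMap A D) I) D,
        ∀ a : A, e (π (algebraMap B _ (algebraMap A B a))) =
          algebraMap D _ (algebraMap A D a) := by
  haveI : IsNoetherianRing B := Algebra.FiniteType.isNoetherianRing A B
  let bB := I.map (algebraMap A B)
  let T := AdicCompletion bB B
  haveI hTN : IsNoetherianRing T := AdicRingLib.isNoetherianRing_adicCompletion bB
  have hfg : bB.FG := IsNoetherian.noetherian bB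
  let S := B ⧸ RingHom.ker (algebraMap B T)
  haveI : IsNoetherianRing S := isNoetherianRing_of_surjective B S (Ideal.Quotient.mk _) Ideal.Quotient.mk_surjective
  letI : Algebra S T := (RingHom.kerLift (algebraMap B T)).toAlgebra
  let b : Ideal S := I.map (algebraMap A S)
  let τ : A →+* T := (algebraMap B T).comp (algebraMap A B)
  have hST : (algebraMap S T).comp (algebraMap A S) = τ := RingHom.ext fun a => rfl
  have hbpow : ∀ {X : Type u} [CommRing X] (g : S →+* X) (n : ℕ),
      (b ^ n).map g = (I ^ n).map (g.comp (algebraMap A S)) := fun g n => by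
    rw [← Ideal.map_pow, Ideal.map_map]
  have hTB : ∀ n, (b ^ n).map (algebraMap S T) = (bB ^ n).map (algebraMap B T) := fun n => by
    rw [hbpow, hST, ← Ideal.map_pow, Ideal.map_map]
  have hdense : IsDense b (T := T) := by
    refine ⟨RingHom.kerLift_injective _, fun n s hs => ?_, fun n z => ?_, ?_⟩
    · obtain ⟨x, rfl⟩ := Ideal.Quotient.mk_surjective s
      rw [hTB] at hs
      have := Ideal.mem_map_of_mem (Ideal.Quotient.mk (RingHom.ker (algebraMap B T)))
        ((AdicRingLib.algebraMap_mem_map_pow_iff hfg n x).mp hs)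
      rw [← Ideal.map_pow, Ideal.map_map] at this
      rw [← Ideal.map_pow]
      exact this
    · obtain ⟨x, hx⟩ := AdicRingLib.exists_sub_mem_map_pow hfg n z
      exact ⟨Ideal.Quotient.mk _ x, by rw [hTB]; exact hx⟩
    · have := hTB 1
      rw [pow_one, pow_one] at this
      rw [this]
      exact AdicRingLib.isAdicComplete_map hfg
  -- the conormal condition
  let J := RingHom.ker π
  let J' := Submodule.annihilator J
  have hrad : I.map τ ^ c ≤ (J ⊔ J').radical := fun t ht =>
    mem_sup_annihilator J t fun x hx => hJ (Ideal.mul_mem_mul ht hx)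
  obtain ⟨N, hN⟩ := Ideal.exists_pow_le_of_le_radical_of_fg hrad (IsNoetherian.noetherian _)
  let M := c * N
  have hM : ∀ t ∈ b ^ M, algebraMap S T t ∈ J ⊔ J' := fun t ht => hN (by
    rw [← pow_mul, ← Ideal.map_pow, ← hST, ← hbpow]
    exact Ideal.mem_map_of_mem _ ht)
  -- the product
  let Q := T ⧸ J'
  let θ0 : T →+* C × Q := π.prod (Ideal.Quotient.mk J')
  letI : Algebra S (C × Q) := (θ0.comp (algebraMap S T)).toAlgebra
  let θ : T →ₐ[S] C × Q := { θ0 with commutes' := fun _ => rfl }
  have hker : ∀ z, θ z = 0 → ∀ t ∈ b ^ M, algebraMap S T t * z = 0 := by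
    intro z hz t ht
    have h1 : z ∈ J := congrArg Prod.fst hz
    have h2 : z ∈ J' := Ideal.Quotient.eq_zero_iff_mem.mp (congrArg Prod.snd hz)
    obtain ⟨j, hj, j', hj', e⟩ := Submodule.mem_sup.mp (hM t ht)
    have e1 : z • j = 0 := Submodule.mem_annihilator.mp h2 j hj
    have e2 : j' • z = 0 := Submodule.mem_annihilator.mp hj' z h1
    rw [smul_eq_mul] at e1 e2
    rw [← e, add_mul, mul_comm j z, e1, e2, add_zero]
  have hcok : ∀ t ∈ b ^ M, ∀ x : C × Q, ∃ z, θ z = algebraMap S (C × Q) t * x := by
    intro t ht x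
    obtain ⟨y, y'⟩ := x
    obtain ⟨u, rfl⟩ := hπ y
    obtain ⟨v, rfl⟩ := Ideal.Quotient.mk_surjective y'
    obtain ⟨j, hj, j', hj', e⟩ := Submodule.mem_sup.mp (hM t ht)
    refine ⟨j' * u + j * v, Prod.ext ?_ ?_⟩
    · show π (j' * u + j * v) = π (algebraMap S T t) * π u
      rw [← e, ← map_mul, ← sub_eq_zero, ← map_sub]
      exact (show j' * u + j * v - (j + j') * u ∈ J from by
        rw [show j' * u + j * v - (j + j') * u = j * (v - u) by ring]; exact J.mul_mem_right _ hj)
    · show Ideal.Quotient.mk J' (j' * u + j * v) = Ideal.Quotient.mk J' (algebraMap S T t) * Ideal.Quotient.mk J' v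
      rw [← e, ← map_mul, Ideal.Quotient.eq, show j' * u + j * v - (j + j') * v = j' * (u - v) by ring]
      exact J'.mul_mem_right _ hj'
  let C₀ := sat θ M hker hcok hdense
  have hC₀ : (Subalgebra.toSubmodule C₀).FG := sat_fg θ M hker hcok hdense
    (κ := ULift.{u} Bool) (fun i => if i.down then (1, 0) else (0, 1)) (fun x => by
      obtain ⟨u, hu⟩ := hπ x.1
      obtain ⟨v, hv⟩ := Ideal.Quotient.mk_surjective x.2
      refine ⟨fun i => if i.down then u else v, ?_⟩
      rw [← Equiv.ulift.symm.sum_comp]
      rw [Fintype.sum_bool]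
      show x = θ0 u * (1, 0) + θ0 v * (0, 1)
      ext
      · simp [θ0, hu]
      · simp [θ0, hv])
  haveI : Module.Finite S C₀ := Module.Finite.iff_fg.mpr hC₀
  -- the idempotent and the localization
  obtain ⟨h₀, hh₀, hh₀1⟩ := exists_sat_near θ M hker hcok hdense 1 ((1, 0) : C × Q)
  rw [hbpow, pow_one] at hh₀1
  let h : C₀ := ⟨h₀, hh₀⟩
  letI : Algebra A C₀ := ((algebraMap S C₀).comp (algebraMap A S)).toAlgebra
  haveI : IsScalarTower A S C₀ := IsScalarTower.of_algebraMap_eq fun _ => rfl
  haveI : Algebra.FiniteType A C₀ := Algebra.FiniteType.trans (S := S) inferInstance inferInstance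
  let D := Localization.Away h
  haveI : Algebra.FiniteType A D := Algebra.FiniteType.trans (S := C₀) inferInstance
    (IsLocalization.finiteType_of_monoid_fg (Submonoid.powers h) D)
  let σ : A →+* C := π.comp τ
  haveI hcT := hdense.complete
  have hbT : b.map (algebraMap S T) = I.map τ := by
    have := hbpow (algebraMap S T) 1
    rwa [pow_one, pow_one, hST] at this
  have hfst : ((RingHom.fst C Q).comp (algebraMap S (C × Q))).comp (algebraMap A S) = σ :=
    RingHom.ext fun a => rfl
  have hsnd : ((RingHom.snd C Q).comp (algebraMap S (C × Q))).comp (algebraMap A S) = (Ideal.Quotient.mk J').comp τ :=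
    RingHom.ext fun a => rfl
  have hh1 : (1 : C) - h₀.1 ∈ (I.map τ).map π := by
    have := Ideal.mem_map_of_mem (RingHom.fst C Q) hh₀1
    rw [Ideal.map_map, ← RingHom.comp_assoc, hfst] at this
    rw [Ideal.map_map]
    exact this
  have hunit : IsUnit h₀.1 := by
    rw [Ideal.mem_map_iff_of_surjective _ hπ] at hh1
    obtain ⟨w, hw, e⟩ := hh1
    rw [show h₀.1 = π (-w * 1 + 1) by rw [map_add, map_one, mul_one, map_neg, e]; ring]
    refine IsUnit.map π (Ideal.mem_jacobson_bot.mp ?_ 1)
    exact neg_mem (IsAdicComplete.le_jacobson_bot (b.map (algebraMap S T)) (hbT.ge hw))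
  let Φ : D →+* C := IsLocalization.Away.lift (S := D) h (g := (RingHom.fst C Q).comp C₀.val.toRingHom) hunit
  have hΦ : ∀ x : C₀, Φ (algebraMap C₀ D x) = (x : C × Q).1 := fun x => IsLocalization.Away.lift_eq h hunit x
  have hΦA : Φ.comp (algebraMap A D) = σ := RingHom.ext fun a => by
    rw [RingHom.comp_apply, IsScalarTower.algebraMap_apply A C₀ D, hΦ]
    exact DFunLike.congr_fun hfst a
  have h𝔡 : (I.map (algebraMap A D)).map Φ = I.map σ := by rw [Ideal.map_map, hΦA]
  have hcC : IsAdicComplete (I.map σ) C := by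
    letI : Algebra T C := π.toAlgebra
    haveI : Module.Finite T C := Module.Finite.of_surjective (Algebra.linearMap T C) hπ
    have h1 : IsAdicComplete (b.map (algebraMap S T)) C := CompleteLib.isAdicComplete_of_finite
    have h2 := (IsAdicComplete.map_algebraMap_iff (S := C) _ _).2 h1
    rwa [hbT, show algebraMap T C = π from rfl, Ideal.map_map] at h2
  obtain ⟨e, he⟩ := exists_equiv_completion (I.map (algebraMap A D)) Φ (by rw [h𝔡]; exact hcC)
    (fun n y => by
      obtain ⟨x, hx, hxy⟩ := exists_sat_near θ M hker hcok hdense n ((y, 0) : C × Q)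
      refine ⟨algebraMap C₀ D ⟨x, hx⟩, ?_⟩
      have := Ideal.mem_map_of_mem (RingHom.fst C Q) hxy
      rw [hbpow, Ideal.map_map, ← RingHom.comp_assoc, hfst] at this
      rw [hΦ, h𝔡, ← Ideal.map_pow]
      exact this)
    (fun n d hd => by
      obtain ⟨⟨x, ⟨_, k, rfl⟩⟩, hx⟩ := IsLocalization.surj (Submonoid.powers h) d
      simp only at hx
      have hu : IsUnit (algebraMap C₀ D h) := IsLocalization.Away.algebraMap_isUnit h
      have hx1 : (x : C × Q).1 ∈ (I ^ n).map σ := by
        rw [← hΦ, ← hx, map_mul, Ideal.map_pow, ← h𝔡]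
        exact Ideal.mul_mem_right _ _ hd
      have hh2 : h₀.2 ∈ I.map ((Ideal.Quotient.mk J').comp τ) := by
        have := Ideal.mem_map_of_mem (RingHom.snd C Q) hh₀1
        rw [Ideal.map_map, ← RingHom.comp_assoc, hsnd] at this
        have e : (RingHom.snd C Q) (((1, 0) : C × Q) - h₀) = -h₀.2 := by simp
        rw [e, neg_mem_iff] at this
        exact this
      have hmem : ((x * h ^ n : C₀) : C × Q) ∈ (b ^ n).map (algebraMap S (C × Q)) := by
        rw [hbpow]
        rw [show (algebraMap S (C × Q)).comp (algebraMap A S) = σ.prod ((Ideal.Quotient.mk J').comp τ) from rfl]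
        refine mk_prod_mem _ _ _ (Ideal.mul_mem_right _ _ hx1) (Ideal.mul_mem_left _ _ ?_)
        rw [Ideal.map_pow]
        show (h₀ ^ n).2 ∈ _
        rw [Prod.pow_snd]
        exact Ideal.pow_mem_pow hh2 n
      have h3 := Ideal.mem_map_of_mem (algebraMap C₀ D) (mem_map_sat θ M hker hcok hdense n _ hmem)
      rw [hbpow, Ideal.map_map, map_mul, map_pow,
        show (algebraMap C₀ D).comp ((algebraMap S C₀).comp (algebraMap A S)) = algebraMap A D from rfl,
        Ideal.map_pow] at h3
      rw [← hx, map_pow] at h3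
      exact (Ideal.mul_unit_mem_iff_mem _ (hu.pow k)).mp ((Ideal.mul_unit_mem_iff_mem _ (hu.pow n)).mp h3))
  refine ⟨D, inferInstance, inferInstance, inferInstance, e, fun a => ?_⟩
  rw [← he]
  exact congrArg e (DFunLike.congr_fun hΦA a).symm

end ConormalAlgz
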