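import Groth.Agent.CompleteLib.Basic
import Mathlib.RingTheory.Filtration
import Mathlib.RingTheory.Finiteness.Ideal

/-!
# Algebraization of finite algebras which differ from the completion by bounded torsion

`S` is a Noetherian ring inside a complete ring `T` with the same truncations along `b`.
-/

set_option autoImplicit false
set_option linter.all false

universe u

namespace ConormalAlgz

variable {S : Type u} [CommRing S] (b : Ideal S) {T : Type u} [CommRing T] [Algebra S T]

/-- `S ⊆ T` have the same truncations along `b` and `T` is complete. -/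
structure IsDense : Prop where
  inj : Function.Injective (algebraMap S T)
  closed : ∀ (n : ℕ) (s : S), algebraMap S T s ∈ (b ^ n).map (algebraMap S T) → s ∈ b ^ n
  dense : ∀ (n : ℕ) (z : T), ∃ s, z - algebraMap S T s ∈ (b ^ n).map (algebraMap S T)
  complete : IsAdicComplete (b.map (algebraMap S T)) T

variable {b}

theorem IsDense.eq_zero (h : IsDense b (T := T)) {x : T}
    (hx : ∀ n, x ∈ (b ^ n).map (algebraMap S T)) : x = 0 := by
  haveI := h.complete
  exact CompleteLib.eq_zero_of_forall_mem (I := b.map (algebraMap S T)) fun n => by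
    rw [smul_eq_mul, Ideal.mul_top, ← Ideal.map_pow]; exact hx n

theorem mem_pow_smul_pi {ι : Type u} [Fintype ι] {I : Ideal S} {v : ι → S} (h : ∀ i, v i ∈ I) :
    v ∈ I • (⊤ : Submodule S (ι → S)) := by
  classical
  rw [pi_eq_sum_univ' v]
  exact Submodule.sum_mem _ fun j _ => Submodule.smul_mem_smul (h j) trivial

theorem apply_mem_of_mem_smul_pi {ι : Type u} {I : Ideal S} {v : ι → S}
    (h : v ∈ I • (⊤ : Submodule S (ι → S))) (i : ι) : v i ∈ I := by
  refine Submodule.smul_induction_on h (fun r hr w _ => ?_) fun x y hx hy => I.add_mem hx hy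
  exact I.mul_mem_right _ hr

/-- The multiples of `a`. -/
def mult {ι : Type u} (a : ι → S) : S →ₗ[S] (ι → S) := LinearMap.toSpanSingleton S (ι → S) a

theorem mult_apply {ι : Type u} (a : ι → S) (e : S) (i : ι) : mult a e i = e * a i := rfl

/-- The Koszul relations. -/
def kos {ι : Type u} (a : ι → S) : (ι → S) →ₗ[S] (ι × ι → S) where
  toFun v p := a p.1 * v p.2 - a p.2 * v p.1
  map_add' v w := by ext p; simp only [Pi.add_apply]; ring
  map_smul' r v := by ext p; simp only [Pi.smul_apply, smul_eq_mul, RingHom.id_apply]; ring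

section
variable [IsNoetherianRing S] {ι : Type u} [Fintype ι] (a : ι → S) {M : ℕ}
  (ha : Ideal.span (Set.range a) = b ^ M)

include ha in
/-- A small solution of the Koszul relations is a small multiple of `a`. -/
theorem exists_small : ∃ c : ℕ, ∀ (n : ℕ) (v : ι → S), kos a v = 0 → (∀ i, v i ∈ b ^ (n + c)) →
    ∃ e ∈ b ^ n, ∀ i, v i = e * a i := by
  obtain ⟨k, hk⟩ := Ideal.exists_pow_inf_eq_pow_smul b (LinearMap.ker (kos a))
  refine ⟨k + M, fun n v hv hsmall => ?_⟩
  have hW : b ^ M • LinearMap.ker (kos a) ≤ LinearMap.range (mult a) := by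
    rw [← ha, Submodule.smul_le]
    intro r hr w hw
    induction hr using Submodule.span_induction with
    | mem x hx =>
      obtain ⟨i, rfl⟩ := hx
      refine ⟨w i, funext fun j => ?_⟩
      have := congr_fun (LinearMap.mem_ker.mp hw) (i, j)
      simp only [kos, LinearMap.coe_mk, AddHom.coe_mk, Pi.zero_apply, sub_eq_zero] at this
      rw [mult_apply, Pi.smul_apply, smul_eq_mul, this, mul_comm]
    | zero => rw [zero_smul]; exact zero_mem _
    | add x y _ _ hx hy => rw [add_smul]; exact add_mem hx hy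
    | smul t x _ hx => rw [smul_assoc]; exact Submodule.smul_mem _ _ hx
  have h1 : v ∈ b ^ (n + (k + M)) • ⊤ ⊓ LinearMap.ker (kos a) := ⟨mem_pow_smul_pi hsmall, hv⟩
  rw [hk _ (by omega), show n + (k + M) - k = n + M by omega, pow_add, Submodule.mul_smul] at h1
  have h2 : v ∈ b ^ n • LinearMap.range (mult a) :=
    Submodule.smul_mono le_rfl ((Submodule.smul_mono le_rfl inf_le_right).trans hW) h1
  rw [← Submodule.map_top, ← Submodule.map_smul''] at h2
  obtain ⟨e, he, rfl⟩ := h2
  exact ⟨e, by rwa [SetLike.mem_coe, smul_eq_mul, Ideal.mul_top] at he, fun i => rfl⟩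

include ha in
theorem exists_torsion_eq_zero : ∃ N : ℕ, ∀ u : S, (∀ i, u * a i = 0) → u ∈ b ^ N → u = 0 := by
  obtain ⟨k, hk⟩ := Ideal.exists_pow_inf_eq_pow_smul b (LinearMap.ker (mult a))
  refine ⟨k + M, fun u hu hub => ?_⟩
  have h1 : u ∈ b ^ (k + M) • ⊤ ⊓ LinearMap.ker (mult a) :=
    ⟨by rw [smul_eq_mul, Ideal.mul_top]; exact hub, funext fun i => hu i⟩
  rw [hk _ (by omega), show k + M - k = M by omega] at h1
  have h2 : u ∈ b ^ M • LinearMap.ker (mult a) := Submodule.smul_mono le_rfl inf_le_right h1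
  refine Submodule.smul_induction_on h2 (fun r hr w hw => ?_) fun x y hx hy => by rw [hx, hy, add_zero]
  rw [← ha] at hr
  induction hr using Submodule.span_induction with
  | mem x hx =>
    obtain ⟨i, rfl⟩ := hx
    have := congr_fun (LinearMap.mem_ker.mp hw) i
    rw [mult_apply, Pi.zero_apply] at this
    rw [smul_eq_mul, mul_comm, this]
  | zero => rw [zero_smul]
  | add x y _ _ hx hy => rw [add_smul, hx, hy, add_zero]
  | smul t x _ hx => rw [smul_assoc, hx, smul_zero]

include ha in
theorem exists_eq_of_forall_mul_eq (h : IsDense b (T := T)) (z : T) (s : ι → S)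
    (hs : ∀ i, algebraMap S T (a i) * z = algebraMap S T (s i)) : ∃ e, algebraMap S T e = z := by
  obtain ⟨c, hc⟩ := exists_small a ha
  have kz : kos a s = 0 := funext fun p => h.inj (by
    show algebraMap S T (a p.1 * s p.2 - a p.2 * s p.1) = algebraMap S T 0
    rw [map_sub, map_mul, map_mul, ← hs, ← hs, map_zero]; ring)
  have near : ∀ (n : ℕ) (t : T) (v : ι → S), kos a v = 0 →
      (∀ i, algebraMap S T (a i) * t = algebraMap S T (v i)) →
      ∃ e, (∀ i, v i = e * a i) ∧ t - algebraMap S T e ∈ (b ^ n).map (algebraMap S T) := by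
    intro n t v hv hvt
    obtain ⟨d, hd⟩ := h.dense (n + c) t
    have h1 : kos a (v - mult a d) = 0 := by
      rw [map_sub, hv, zero_sub, neg_eq_zero]
      funext p
      show a p.1 * (d * a p.2) - a p.2 * (d * a p.1) = 0
      ring
    obtain ⟨e, he, hev⟩ := hc n (v - mult a d) h1 fun i => h.closed _ _ (by
      rw [Pi.sub_apply, mult_apply, map_sub, map_mul, ← hvt, mul_comm (algebraMap S T d), ← mul_sub]
      exact Ideal.mul_mem_left _ _ hd)
    refine ⟨d + e, fun i => ?_, ?_⟩
    · have := hev i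
      rw [Pi.sub_apply, mult_apply, sub_eq_iff_eq_add] at this
      rw [this]; ring
    · rw [map_add, ← sub_sub]
      exact sub_mem (Ideal.map_mono (Ideal.pow_le_pow_right (by omega)) hd) (Ideal.mem_map_of_mem _ he)
  obtain ⟨e₀, he₀, -⟩ := near 0 z s kz hs
  have ht : ∀ i, algebraMap S T (a i) * (z - algebraMap S T e₀) = algebraMap S T 0 := fun i => by
    rw [mul_sub, hs, he₀, map_mul, map_zero]; ring
  obtain ⟨N, hN⟩ := exists_torsion_eq_zero a ha
  choose u hu hun using fun n => near n (z - algebraMap S T e₀) 0 (map_zero _) ht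
  refine ⟨e₀ + u N, ?_⟩
  rw [map_add, eq_comm, ← sub_eq_zero, ← sub_sub]
  refine h.eq_zero fun n => ?_
  have heq : u (n + N) = u N := by
    refine sub_eq_zero.mp (hN _ (fun i => ?_) (h.closed _ _ ?_))
    · have h1 := hu (n + N) i; have h2 := hu N i
      rw [Pi.zero_apply] at h1 h2
      rw [sub_mul, ← h1, ← h2, sub_zero]
    · rw [map_sub, ← sub_sub_sub_cancel_left]
      exact sub_mem (hun N) (Ideal.map_mono (Ideal.pow_le_pow_right (by omega)) (hun (n + N)))
  rw [← heq]
  exact Ideal.map_mono (Ideal.pow_le_pow_right (by omega)) (hun (n + N))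

include ha in
theorem exists_eq_add_mul_of_koszul (h : IsDense b (T := T)) (w : ι → T)
    (hw : ∀ i j, algebraMap S T (a i) * w j = algebraMap S T (a j) * w i) :
    ∃ (s : ι → S) (x : T), ∀ i, w i = algebraMap S T (s i) + algebraMap S T (a i) * x := by
  obtain ⟨c, hc⟩ := exists_small a ha
  obtain ⟨k, hk⟩ := Ideal.exists_pow_inf_eq_pow_smul b (LinearMap.range (kos a))
  have near : ∀ m : ℕ, ∃ v : ι → S, kos a v = 0 ∧
      ∀ i, w i - algebraMap S T (v i) ∈ (b ^ m).map (algebraMap S T) := by
    intro m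
    choose v hv using fun i => h.dense (m + k) (w i)
    have h1 : kos a v ∈ b ^ (m + k) • ⊤ ⊓ LinearMap.range (kos a) := ⟨mem_pow_smul_pi fun p => h.closed _ _ (by
      show algebraMap S T (a p.1 * v p.2 - a p.2 * v p.1) ∈ _
      rw [show algebraMap S T (a p.1 * v p.2 - a p.2 * v p.1) =
        algebraMap S T (a p.2) * (w p.1 - algebraMap S T (v p.1)) -
          algebraMap S T (a p.1) * (w p.2 - algebraMap S T (v p.2)) by
          rw [map_sub, map_mul, map_mul, mul_sub, mul_sub, hw p.1 p.2]; ring]
      exact sub_mem (Ideal.mul_mem_left _ _ (hv _)) (Ideal.mul_mem_left _ _ (hv _))), v, rfl⟩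
    rw [hk _ (by omega), show m + k - k = m by omega] at h1
    have h2 : kos a v ∈ b ^ m • LinearMap.range (kos a) := Submodule.smul_mono le_rfl inf_le_right h1
    rw [← Submodule.map_top, ← Submodule.map_smul''] at h2
    obtain ⟨e, he, hev⟩ := h2
    refine ⟨v - e, by rw [map_sub, hev, sub_self], fun i => ?_⟩
    rw [Pi.sub_apply, map_sub, ← sub_add]
    exact add_mem (Ideal.map_mono (Ideal.pow_le_pow_right (by omega)) (hv i))
      (Ideal.mem_map_of_mem _ (apply_mem_of_mem_smul_pi he i))
  choose v hv0 hv using near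
  have step : ∀ n, ∃ e ∈ b ^ n, ∀ i, v (n + 1 + c) i - v (n + c) i = e * a i := fun n =>
    hc n (v (n + 1 + c) - v (n + c)) (by rw [map_sub, hv0, hv0, sub_self]) fun i => h.closed _ _ (by
      rw [Pi.sub_apply, map_sub, ← sub_sub_sub_cancel_left]
      exact sub_mem (hv (n + c) i) (Ideal.map_mono (Ideal.pow_le_pow_right (by omega)) (hv (n + 1 + c) i)))
  choose e he hev using step
  haveI := h.complete
  obtain ⟨x, hx⟩ := CompleteLib.exists_limit (I := b.map (algebraMap S T))
    (fun n => algebraMap S T (∑ j ∈ Finset.range n, e j)) fun n => by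
      rw [smul_eq_mul, Ideal.mul_top, ← Ideal.map_pow, Finset.sum_range_succ, map_add, add_sub_cancel_left]
      exact Ideal.mem_map_of_mem _ (he n)
  refine ⟨v c, x, fun i => sub_eq_zero.mp (h.eq_zero fun n => ?_)⟩
  have key : ∀ n, v (n + c) i = v c i + (∑ j ∈ Finset.range n, e j) * a i := by
    intro n
    induction n with
    | zero => simp
    | succ n ih =>
      rw [Finset.sum_range_succ, add_mul, ← add_assoc, ← ih, ← hev n i, add_sub_cancel]
  have h1 := hx n
  rw [smul_eq_mul, Ideal.mul_top, ← Ideal.map_pow] at h1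
  have h2 := Ideal.map_mono (Ideal.pow_le_pow_right (show n ≤ n + c by omega)) (hv (n + c) i)
  rw [key n, map_add, map_mul] at h2
  convert sub_mem h2 (Ideal.mul_mem_left _ (algebraMap S T (a i)) h1) using 1
  ring

end

theorem exists_generators [IsNoetherianRing S] (I : Ideal S) :
    ∃ (ι : Type u) (_ : Fintype ι) (a : ι → S), Ideal.span (Set.range a) = I := by
  obtain ⟨s, hs⟩ := IsNoetherian.noetherian I
  exact ⟨{x // x ∈ s}, inferInstance, Subtype.val, (congrArg Ideal.span Subtype.range_coe).trans hs⟩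

/-- An element of `T` some power of `b` multiplies into `S` lies in `S`. -/
theorem IsDense.mem_range [IsNoetherianRing S] (h : IsDense b (T := T)) (M : ℕ) (z : T)
    (hz : ∀ t ∈ b ^ M, algebraMap S T t * z ∈ (algebraMap S T).range) : z ∈ (algebraMap S T).range := by
  obtain ⟨ι, _, a, ha⟩ := exists_generators (b ^ M)
  choose s hs using fun i => hz (a i) (ha.le (Ideal.subset_span (Set.mem_range_self i)))
  exact exists_eq_of_forall_mul_eq a ha h z s fun i => (hs i).symm

section Sat

variable [IsNoetherianRing S] {C : Type u} [CommRing C] [Algebra S C] (θ : T →ₐ[S] C) (M : ℕ)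

/-- The finite algebra over `S` inside `C`. -/
def SatCond (x : C) : Prop := ∀ t ∈ b ^ M, algebraMap S C t * x ∈ (algebraMap S C).range

variable (hker : ∀ z, θ z = 0 → ∀ t ∈ b ^ M, algebraMap S T t * z = 0)
  (hcok : ∀ t ∈ b ^ M, ∀ x : C, ∃ z, θ z = algebraMap S C t * x)
  (h : IsDense b (T := T))

include hker h in
theorem mem_range_of_satCond (z : T) (hz : SatCond (b := b) M (θ z)) : z ∈ (algebraMap S T).range := by
  refine h.mem_range (M + M) z fun u hu => ?_
  rw [pow_add] at hu
  refine Submodule.mul_induction_on hu (fun t ht t' ht' => ?_) fun x y hx hy => by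
    rw [map_add, add_mul]; exact add_mem hx hy
  obtain ⟨s, hs⟩ := hz t ht
  have h0 : θ (algebraMap S T t * z - algebraMap S T s) = 0 := by
    rw [map_sub, map_mul, θ.commutes, θ.commutes, hs, sub_self]
  refine ⟨t' * s, ?_⟩
  have := hker _ h0 t' ht'
  rw [mul_sub, sub_eq_zero] at this
  rw [map_mul, map_mul, ← this]; ring

include hker hcok h in
theorem satCond_mul (x y : C) (hx : SatCond (b := b) (S := S) M x) (hy : SatCond (b := b) (S := S) M y) :
    SatCond (b := b) (S := S) M (x * y) := by
  intro t ht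
  obtain ⟨z, hz⟩ := hcok t ht (x * y)
  obtain ⟨s, hs⟩ := mem_range_of_satCond θ M hker h z fun t' ht' => by
    obtain ⟨r, hr⟩ := hx t ht
    obtain ⟨r', hr'⟩ := hy t' ht'
    exact ⟨r * r', by rw [map_mul, hr, hr', hz]; ring⟩
  exact ⟨s, by rw [← hz, ← hs, θ.commutes]⟩

/-- The saturation. -/
def sat : Subalgebra S C where
  carrier := {x | SatCond (b := b) (S := S) M x}
  mul_mem' {x y} hx hy := satCond_mul θ M hker hcok h x y hx hy
  add_mem' {x y} hx hy t ht := by rw [mul_add]; exact add_mem (hx t ht) (hy t ht)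
  algebraMap_mem' r t ht := ⟨t * r, map_mul _ _ _⟩

theorem mem_sat_iff (x : C) : x ∈ sat θ M hker hcok h ↔ SatCond (b := b) (S := S) M x := Iff.rfl

theorem exists_sat_add (x : C) : ∃ c ∈ sat θ M hker hcok h, ∃ z : T, x = c + θ z := by
  obtain ⟨ι, _, a, ha⟩ := exists_generators (b ^ M)
  have ham : ∀ i, a i ∈ b ^ M := fun i => ha.le (Ideal.subset_span (Set.mem_range_self i))
  choose y hy using fun i => hcok (a i) (ham i) x
  let a2 : ι × ι → S := fun p => a p.1 * a p.2
  have ha2 : Ideal.span (Set.range a2) = b ^ (M + M) := by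
    rw [pow_add, ← ha, Ideal.span_mul_span']
    congr 1
    ext u
    simp [a2, Set.mem_mul]
  have hd : ∀ j l i, algebraMap S T (a i) * (algebraMap S T (a j) * y l - algebraMap S T (a l) * y j) = 0 :=
    fun j l i => hker _ (by rw [map_sub, map_mul, map_mul, θ.commutes, θ.commutes, hy, hy]; ring) _ (ham i)
  obtain ⟨s, z, hsz⟩ := exists_eq_add_mul_of_koszul a2 ha2 h (fun p => algebraMap S T (a p.1) * y p.2)
    fun p q => by
      have := congrArg (algebraMap S T (a q.1) * ·) (hd p.2 q.2 p.1)
      simp only [mul_zero] at this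
      rw [← sub_eq_zero, map_mul, map_mul]
      rw [← this]; ring
  refine ⟨x - θ z, fun t ht => ?_, z, (sub_add_cancel _ _).symm⟩
  have hl : ∀ l, algebraMap S C (a l) * (x - θ z) ∈ (algebraMap S C).range := fun l => by
    have hθ : θ (y l - algebraMap S T (a l) * z) = algebraMap S C (a l) * (x - θ z) := by
      rw [map_sub, map_mul, θ.commutes, hy]; ring
    obtain ⟨r, hr⟩ := mem_range_of_satCond θ M hker h (y l - algebraMap S T (a l) * z) fun t ht => by
      rw [← ha] at ht
      induction ht using Submodule.span_induction with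
      | mem u hu =>
        obtain ⟨j, rfl⟩ := hu
        refine ⟨s (j, l), ?_⟩
        have := congrArg θ (hsz (j, l))
        simp only [a2, map_add, map_mul, θ.commutes] at this
        rw [map_sub, map_mul, θ.commutes, mul_sub, this]; ring
      | zero => rw [map_zero, zero_mul]; exact zero_mem _
      | add u v _ _ hu hv => rw [map_add, add_mul]; exact add_mem hu hv
      | smul c u _ hu => rw [smul_eq_mul, map_mul, mul_assoc]; exact mul_mem ⟨c, rfl⟩ hu
    exact ⟨r, by rw [← hθ, ← hr, θ.commutes]⟩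
  rw [← ha] at ht
  induction ht using Submodule.span_induction with
  | mem u hu => obtain ⟨j, rfl⟩ := hu; exact hl j
  | zero => rw [map_zero, zero_mul]; exact zero_mem _
  | add u v _ _ hu hv => rw [map_add, add_mul]; exact add_mem hu hv
  | smul c u _ hu => rw [smul_eq_mul, map_mul, mul_assoc]; exact mul_mem ⟨c, rfl⟩ hu

theorem exists_sat_near (n : ℕ) (x : C) :
    ∃ c ∈ sat θ M hker hcok h, x - c ∈ (b ^ n).map (algebraMap S C) := by
  obtain ⟨c, hc, z, rfl⟩ := exists_sat_add θ M hker hcok h x
  obtain ⟨s, hs⟩ := h.dense n z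
  refine ⟨c + algebraMap S C s, add_mem hc (Subalgebra.algebraMap_mem _ s), ?_⟩
  rw [add_sub_add_left_eq_sub, ← θ.commutes, ← map_sub]
  have h1 := Ideal.mem_map_of_mem θ hs
  rwa [show ((b ^ n).map (algebraMap S T)).map θ = (b ^ n).map (algebraMap S C) from
    (Ideal.map_map (algebraMap S T) (θ : T →+* C)).trans (by rw [θ.comp_algebraMap])] at h1

theorem mem_map_sat (n : ℕ) (c : sat θ M hker hcok h) (hc : (c : C) ∈ (b ^ n).map (algebraMap S C)) :
    c ∈ (b ^ n).map (algebraMap S (sat θ M hker hcok h)) := by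
  let P : C → Prop := fun x => ∃ d ∈ (b ^ n).map (algebraMap S (sat θ M hker hcok h)),
    ∃ z ∈ (b ^ n).map (algebraMap S T), x = (d : C) + θ z
  have hP : ∀ x ∈ (b ^ n).map (algebraMap S C), ∀ r, P (r * x) := by
    intro x hx
    induction hx using Submodule.span_induction with
    | mem u hu =>
      obtain ⟨t, ht, rfl⟩ := hu
      intro r
      obtain ⟨d, hd, z, rfl⟩ := exists_sat_add θ M hker hcok h r
      refine ⟨⟨d, hd⟩ * algebraMap S _ t, Ideal.mul_mem_left _ _ (Ideal.mem_map_of_mem _ ht),
        z * algebraMap S T t, Ideal.mul_mem_left _ _ (Ideal.mem_map_of_mem _ ht), ?_⟩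
      rw [map_mul, θ.commutes, add_mul]
      rfl
    | zero => intro r; exact ⟨0, zero_mem _, 0, zero_mem _, by simp⟩
    | add u v _ _ hu hv =>
      intro r
      obtain ⟨d, hd, z, hz, e⟩ := hu r
      obtain ⟨d', hd', z', hz', e'⟩ := hv r
      exact ⟨d + d', add_mem hd hd', z + z', add_mem hz hz', by rw [mul_add, e, e', map_add, AddMemClass.coe_add]; ring⟩
    | smul w u _ hu => intro r; rw [smul_eq_mul, ← mul_assoc]; exact hu _
  obtain ⟨d, hd, z, hz, e⟩ := hP _ hc 1
  rw [one_mul] at e
  obtain ⟨s, hs⟩ := mem_range_of_satCond θ M hker h z (fun t ht => by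
    rw [show θ z = ((c - d : sat θ M hker hcok h) : C) by rw [AddSubgroupClass.coe_sub, e]; ring]
    exact (c - d).2 t ht)
  have : c = d + algebraMap S _ s := Subtype.ext (by rw [AddMemClass.coe_add, e, ← hs, θ.commutes]; rfl)
  rw [this]
  exact add_mem hd (Ideal.mem_map_of_mem _ (h.closed n s (hs ▸ hz)))

theorem sat_fg {κ : Type u} [Fintype κ] (g : κ → C) (hg : ∀ x, ∃ f : κ → T, x = ∑ i, θ (f i) * g i) :
    (Subalgebra.toSubmodule (sat θ M hker hcok h)).FG := by
  let P : Submodule S C := LinearMap.range θ.toLinearMap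
  haveI : Module.Finite S (C ⧸ P) := by
    refine ⟨(Submodule.fg_iff_exists_fin_generating_family).mpr ?_⟩
    let e := Fintype.equivFin κ
    refine ⟨_, fun j => P.mkQ (g (e.symm j)), eq_top_iff.mpr fun x _ => ?_⟩
    obtain ⟨x, rfl⟩ := P.mkQ_surjective x
    obtain ⟨f, rfl⟩ := hg x
    choose s hs using fun i => h.dense M (f i)
    have key : ∀ i, P.mkQ (θ (f i) * g i) = s i • P.mkQ (g i) := fun i => by
      rw [← map_smul, Algebra.smul_def, Submodule.mkQ_apply, Submodule.mkQ_apply, Submodule.Quotient.eq,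
        ← θ.commutes, ← sub_mul, ← map_sub]
      have hw : ∀ w ∈ (b ^ M).map (algebraMap S T), θ w * g i ∈ P := by
        intro w hw
        induction hw using Submodule.span_induction with
        | mem u hu =>
          obtain ⟨t, ht, rfl⟩ := hu
          obtain ⟨z, hz⟩ := hcok t ht (g i)
          exact ⟨z, by show θ z = _; rw [hz, θ.commutes]⟩
        | zero => rw [map_zero, zero_mul]; exact zero_mem _
        | add u v _ _ hu hv => rw [map_add, add_mul]; exact add_mem hu hv
        | smul c u _ hu =>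
          obtain ⟨z, hz⟩ := hu
          refine ⟨c * z, ?_⟩
          show θ (c * z) = _
          rw [smul_eq_mul, map_mul, map_mul, show θ z = θ u * g i from hz, mul_assoc]
      exact hw _ (hs i)
    rw [map_sum]
    refine Submodule.sum_mem _ fun i _ => ?_
    rw [key]
    exact Submodule.smul_mem _ _ (Submodule.subset_span ⟨e i, by simp⟩)
  refine Submodule.fg_of_fg_map_of_fg_inf_ker P.mkQ (IsNoetherian.noetherian _) ?_
  have : Subalgebra.toSubmodule (sat θ M hker hcok h) ⊓ LinearMap.ker P.mkQ =
      LinearMap.range (Algebra.linearMap S C) := by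
    rw [Submodule.ker_mkQ]
    refine le_antisymm ?_ ?_
    · rintro x ⟨hx, z, rfl⟩
      obtain ⟨s, hs⟩ := mem_range_of_satCond θ M hker h z hx
      exact ⟨s, by show algebraMap S C s = θ z; rw [← hs, θ.commutes]⟩
    · rintro _ ⟨s, rfl⟩
      exact ⟨Subalgebra.algebraMap_mem _ s, algebraMap S T s, θ.commutes s⟩
  rw [this, LinearMap.range_eq_map]
  exact Module.Finite.fg_top.map _

end Sat

end ConormalAlgz
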